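import Cfsg.Agent.H254.BS.PartI
import Cfsg.Agent.H77.TBaseAlt
import Cfsg.Agent.H321.Alt
import Cfsg.Agent.H830.B57.Inv

/-!
# S5717: from the rows to `TBase` for all known simple groups (helper254)
-/

set_option autoImplicit false

namespace Cfsg.Agent.H254.BS.PI

open Cfsg.Agent.H830.B57

/-- `A_d` is a section of `A_n` for `d ≤ n` -/
theorem involves_alt {d n : ℕ} (h : d ≤ n) :
    Cfsg.Involves (alternatingGroup (Fin d)) (alternatingGroup (Fin n)) := by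
  obtain ⟨f, hf⟩ := H321.Alt.exists_inj h
  refine involves_of_injective f hf ?_
  rw [inv_iff]
  exact ⟨⊤, (⊤ : Subgroup (alternatingGroup (Fin d))).subtype, fun y => ⟨⟨y, Subgroup.mem_top _⟩, rfl⟩⟩

theorem rows_alt (hm : T_tbase_mono) : Rows (fun T _ => Cfsg.IsAlternating T) := by
  obtain ⟨c, hc⟩ := H77.TBaseAlt.tbase_alt
  refine ⟨c + 1, Nat.succ_pos _, ?_⟩
  intro d hd T _ _ _ ⟨n, hn, ⟨e⟩⟩ hI
  have hnd : n < d := by
    by_contra h
    exact hI (involves_of_surjective e.toMonoidHom e.surjective (involves_alt (not_lt.1 h)))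
  have h1 : TBase T (c * n) := hc n hn T ⟨e⟩
  rcases Nat.eq_zero_or_pos c with h0 | h0
  · subst h0
    rw [Nat.zero_mul] at h1
    -- no points at all
    intro H hH
    obtain ⟨t, ht⟩ := h1 H hH
    exact ⟨fun _ => 1, fun a ha _ => ht a ha (fun j => j.elim0)⟩
  · exact hm T (c * n) ((c + 1) * d) (Nat.mul_le_mul (Nat.le_succ c) hnd.le) (Nat.mul_pos h0 (by omega)) h1

/-- all known simple groups -/
theorem tbase_known (hm : T_tbase_mono) (r1 : Rows (fun T _ => Cfsg.IsPSL T)) (r2 : Rows (fun T _ => Cfsg.IsPSp T))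
    (r3 : Rows (fun T _ => Cfsg.IsPSU T)) (r4 : Rows (fun T _ => Cfsg.IsPOmegaOdd T))
    (r5 : Rows (fun T _ => Cfsg.IsPOmegaPlus T)) (r6 : Rows (fun T _ => Cfsg.IsPOmegaMinus T))
    (r7 : Rows (fun T _ => Cfsg.IsExceptionalLieType T)) (r8 : Rows (fun T _ => Cfsg.IsSporadicGroup T)) :
    ∃ C1 : ℕ, ∀ d : ℕ, 5 ≤ d → ∀ (T : Type) [Group T] [Finite T] [IsSimpleGroup T], Cfsg.IsKnownSimple' T →
      (∃ x y : T, x * y ≠ y * x) → ¬ Cfsg.Involves (alternatingGroup (Fin d)) T → TBase T (C1 * d) := by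
  obtain ⟨c0, p0, h0⟩ := rows_alt hm
  obtain ⟨c1, p1, h1⟩ := r1
  obtain ⟨c2, p2, h2⟩ := r2
  obtain ⟨c3, p3, h3⟩ := r3
  obtain ⟨c4, p4, h4⟩ := r4
  obtain ⟨c5, p5, h5⟩ := r5
  obtain ⟨c6, p6, h6⟩ := r6
  obtain ⟨c7, p7, h7⟩ := r7
  obtain ⟨c8, p8, h8⟩ := r8
  refine ⟨c0 + c1 + c2 + c3 + c4 + c5 + c6 + c7 + c8, ?_⟩
  intro d hd T _ _ _ hk hne hI
  have key : ∀ c : ℕ, 0 < c → c ≤ c0 + c1 + c2 + c3 + c4 + c5 + c6 + c7 + c8 → TBase T (c * d) →
      TBase T ((c0 + c1 + c2 + c3 + c4 + c5 + c6 + c7 + c8) * d) := fun c hc hle h =>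
    hm T _ _ (Nat.mul_le_mul_right d hle) (Nat.mul_pos hc (by omega)) h
  rcases hk with h | h | h | h | h | h | h | h | h | h
  · exfalso
    have : Fact (Nat.card T).Prime := ⟨h⟩
    obtain ⟨x, y, hxy⟩ := hne
    have hc : IsCyclic T := isCyclic_of_prime_card rfl
    have := hc.commGroup
    exact hxy (IsCyclic.commGroup.mul_comm x y)
  · exact key c0 p0 (by omega) (h0 d hd T h hI)
  · exact key c1 p1 (by omega) (h1 d hd T h hI)
  · exact key c2 p2 (by omega) (h2 d hd T h hI)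
  · exact key c3 p3 (by omega) (h3 d hd T h hI)
  · exact key c4 p4 (by omega) (h4 d hd T h hI)
  · exact key c5 p5 (by omega) (h5 d hd T h hI)
  · exact key c6 p6 (by omega) (h6 d hd T h hI)
  · exact key c7 p7 (by omega) (h7 d hd T h hI)
  · exact key c8 p8 (by omega) (h8 d hd T h hI)

end Cfsg.Agent.H254.BS.PI
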