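import Cfsg.Agent.H917.FP.Basic
import Cfsg.Agent.H830.B57.Defs
import Cfsg.Prelude.Def_Classification2

/-!
# S5717, PART I: fixed point ratios of the simple groups of Lie type.  Exact targets (helper254).
`fpr` is `Cfsg.Agent.H917.FP.fpr`, `TBase` is `Cfsg.Agent.H830.B57.TBase` (interface to Part II).
Each `def X : Prop` is to be proved as `theorem x : X` in a file of your own.
-/

set_option autoImplicit false

namespace Cfsg.Agent.H254.BS.PI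

open scoped MatrixGroups
open Cfsg.Agent.H917.FP Cfsg.Agent.H830.B57

/-- the support: least rank of `A - μ`, `μ` in the ground field -/
noncomputable def supp {ι : Type} [Fintype ι] [DecidableEq ι] {F : Type} [Field F] (A : Matrix ι ι F) : ℕ :=
  sInf (Set.range fun μ : F => (A - Matrix.scalar ι μ).rank)

/-- `x` has fixed point ratio at most `δ` on every finite `M`-set without global fixed points -/
def FixLE (M : Type) [Group M] (x : M) (δ : ℝ) : Prop :=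
  ∀ (Ω : Type) [Finite Ω] [MulAction M Ω], (∀ ω : Ω, ∃ g : M, g • ω ≠ ω) → fpr Ω {x} ≤ δ

/-- the strong bound for a matrix group `M` -/
structure Strong (C : ℕ) (M : Type) [Group M] {ι : Type} [Fintype ι] [DecidableEq ι] {F : Type} [Field F] [Fintype F]
    (m : M → Matrix ι ι F) : Prop where
  fix : ∀ x : M, x ∉ Subgroup.center M → ∀ (Ω : Type) [Finite Ω] [MulAction M Ω],
    (∀ ω : Ω, ∃ g : M, g • ω ≠ ω) → fpr Ω {x} ^ C * (Fintype.card F : ℝ) ^ supp (m x) ≤ C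
  triv : ∀ x : M, x ∉ Subgroup.center M → FixLE M x (1 - 1 / C)

/-- the weak bound (bounded rank) -/
def WeakM (C : ℕ) (M : Type) [Group M] (q : ℕ) : Prop :=
  ∀ x : M, x ∉ Subgroup.center M → ∀ (Ω : Type) [Finite Ω] [MulAction M Ω],
    (∀ ω : Ω, ∃ g : M, g • ω ≠ ω) → fpr Ω {x} ^ C * (q : ℝ) ≤ C

/-- the matrix of an element of `Omega F Q` -/
def omMat {ι : Type} [Fintype ι] [DecidableEq ι] {F : Type} [Field F] (Q : (ι → F) → F)
    (x : Cfsg.Omega F Q) : Matrix ι ι F := (x.1.1 : GL ι F).1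

/-! ### main theorems for the classical groups -/

def T_SL : Prop := ∃ C : ℕ, 0 < C ∧ ∀ (F : Type) [Field F] [Fintype F] (n : ℕ), 2 ≤ n →
  (n = 2 → 4 ≤ Fintype.card F) → Strong C SL(n, F) (fun x => (x : Matrix (Fin n) (Fin n) F))

def T_Sp : Prop := ∃ C : ℕ, 0 < C ∧ ∀ (F : Type) [Field F] [Fintype F] (m : ℕ), 2 ≤ m →
  (m = 2 → 3 ≤ Fintype.card F) →
  Strong C (Matrix.symplecticGroup (Fin m) F) (fun x => (x : Matrix (Fin m ⊕ Fin m) (Fin m ⊕ Fin m) F))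

def T_SU : Prop := ∃ C : ℕ, 0 < C ∧ ∀ (F : Type) [Field F] [Fintype F] (n q : ℕ), Fintype.card F = q ^ 2 → 3 ≤ n →
  ¬ (n = 3 ∧ q = 2) → Strong C (Cfsg.SU n F q)
    (fun x => ((x : Matrix.SpecialLinearGroup (Fin n) F) : Matrix (Fin n) (Fin n) F))

def T_OOdd : Prop := ∃ C : ℕ, 0 < C ∧ ∀ (F : Type) [Field F] [Fintype F] (m : ℕ), 3 ≤ m → Odd (Fintype.card F) →
  Strong C (Cfsg.Omega F (Cfsg.quadFormOdd m F)) (omMat (Cfsg.quadFormOdd m F))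

def T_OPlus : Prop := ∃ C : ℕ, 0 < C ∧ ∀ (F : Type) [Field F] [Fintype F] (m : ℕ), 4 ≤ m →
  Strong C (Cfsg.Omega F (Cfsg.quadFormPlus m F)) (omMat (Cfsg.quadFormPlus m F))

def T_OMinus : Prop := ∃ C : ℕ, 0 < C ∧ ∀ (F : Type) [Field F] [Fintype F] (m : ℕ) (a b : F), 4 ≤ m →
  (∀ z₁ z₂ : F, z₁ ^ 2 + a * z₁ * z₂ + b * z₂ ^ 2 = 0 → z₁ = 0 ∧ z₂ = 0) →
  Strong C (Cfsg.Omega F (Cfsg.quadFormMinus (m - 1) F a b)) (omMat (Cfsg.quadFormMinus (m - 1) F a b))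

/-! ### bounded dimension (`BR`), every `n₀` -/

def BR_SL : Prop := ∀ n₀ : ℕ, ∃ C : ℕ, 0 < C ∧ ∀ (F : Type) [Field F] [Fintype F] (n : ℕ), 2 ≤ n → n ≤ n₀ →
  (n = 2 → 4 ≤ Fintype.card F) → WeakM C SL(n, F) (Fintype.card F)

def BR_Sp : Prop := ∀ n₀ : ℕ, ∃ C : ℕ, 0 < C ∧ ∀ (F : Type) [Field F] [Fintype F] (m : ℕ), 2 ≤ m → m ≤ n₀ →
  (m = 2 → 3 ≤ Fintype.card F) → WeakM C (Matrix.symplecticGroup (Fin m) F) (Fintype.card F)

def BR_SU : Prop := ∀ n₀ : ℕ, ∃ C : ℕ, 0 < C ∧ ∀ (F : Type) [Field F] [Fintype F] (n q : ℕ),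
  Fintype.card F = q ^ 2 → 3 ≤ n → n ≤ n₀ → ¬ (n = 3 ∧ q = 2) → WeakM C (Cfsg.SU n F q) (Fintype.card F)

def BR_OOdd : Prop := ∀ n₀ : ℕ, ∃ C : ℕ, 0 < C ∧ ∀ (F : Type) [Field F] [Fintype F] (m : ℕ), 3 ≤ m → m ≤ n₀ →
  Odd (Fintype.card F) → WeakM C (Cfsg.Omega F (Cfsg.quadFormOdd m F)) (Fintype.card F)

def BR_OPlus : Prop := ∀ n₀ : ℕ, ∃ C : ℕ, 0 < C ∧ ∀ (F : Type) [Field F] [Fintype F] (m : ℕ), 4 ≤ m → m ≤ n₀ →
  WeakM C (Cfsg.Omega F (Cfsg.quadFormPlus m F)) (Fintype.card F)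

def BR_OMinus : Prop := ∀ n₀ : ℕ, ∃ C : ℕ, 0 < C ∧ ∀ (F : Type) [Field F] [Fintype F] (m : ℕ) (a b : F), 4 ≤ m →
  m ≤ n₀ → (∀ z₁ z₂ : F, z₁ ^ 2 + a * z₁ * z₂ + b * z₂ ^ 2 = 0 → z₁ = 0 ∧ z₂ = 0) →
  WeakM C (Cfsg.Omega F (Cfsg.quadFormMinus (m - 1) F a b)) (Fintype.card F)

/-- exceptional groups -/
def T_Exc : Prop := ∃ C : ℕ, 0 < C ∧ ∀ (T : Type) [Group T] [Finite T] [IsSimpleGroup T],
  Cfsg.IsExceptionalLieType T → ∃ q : ℕ, 2 ≤ q ∧ Nat.card T ≤ q ^ C ∧ WeakM C T q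

/-! ### from the bounds to `TBase` -/

/-- N1: union bound for the inner elements, then the 2-generation trick (S3948) for the automorphisms.
`N` = dimension, `ν` = support. -/
def T_tbase_of_strong : Prop :=
  ∀ C : ℕ, ∃ c : ℕ, ∀ (q N : ℕ), 2 ≤ q → 1 ≤ N → ∀ (T : Type) [Group T] [Finite T] [IsSimpleGroup T],
    (∃ a b : T, a * b ≠ b * a) → ∀ (ν : T → ℕ), (∀ x, x ≠ 1 → 1 ≤ ν x) →
    (∀ s, Nat.card {x : T // ν x = s} ≤ q ^ (C * N * (s + 1))) →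
    (∀ x : T, x ≠ 1 → ∀ (Ω : Type) [Finite Ω] [MulAction T Ω], (∀ ω : Ω, ∃ g : T, g • ω ≠ ω) →
      fpr Ω {x} ^ C * (q : ℝ) ^ ν x ≤ C) →
    (∀ x : T, x ≠ 1 → FixLE T x (1 - 1 / C)) → TBase T (c * N)

/-- N2: bounded order -/
def T_tbase_small : Prop := ∀ n : ℕ, ∃ c : ℕ, ∀ (T : Type) [Group T] [Finite T] [IsSimpleGroup T],
  (∃ a b : T, a * b ≠ b * a) → Nat.card T ≤ n → TBase T c

/-- monotonicity of `TBase` in `k` -/
def T_tbase_mono : Prop := ∀ (T : Type) [Group T] (k l : ℕ), k ≤ l → 0 < k → TBase T k → TBase T l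

/-- N3: number of matrices of support `s` -/
def T_count : Prop := ∀ (F : Type) [Field F] [Fintype F] (ι : Type) [Fintype ι] [DecidableEq ι] (s : ℕ),
  Nat.card {A : Matrix ι ι F // supp A = s} ≤ (Fintype.card F) ^ (2 * Fintype.card ι * s + 1)

/-- N4: a non-central element has positive support (scalar matrices are central) -/
def T_supp_pos : Prop := ∀ (F : Type) [Field F] [Fintype F] (ι : Type) [Fintype ι] [DecidableEq ι]
  (A : Matrix ι ι F), supp A = 0 → ∃ μ : F, A = Matrix.scalar ι μ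

/-! ### N5: alternating sections -/

def A_PSL : Prop := ∃ C : ℕ, ∀ (F : Type) [Field F] [Fintype F] (n d : ℕ), 5 ≤ d → 2 ≤ n →
  ¬ Cfsg.Involves (alternatingGroup (Fin d)) (Matrix.ProjectiveSpecialLinearGroup (Fin n) F) → n ≤ C * d
def A_PSp : Prop := ∃ C : ℕ, ∀ (F : Type) [Field F] [Fintype F] (m d : ℕ), 5 ≤ d →
  ¬ Cfsg.Involves (alternatingGroup (Fin d)) (Cfsg.PSp m F) → m ≤ C * d
def A_PSU : Prop := ∃ C : ℕ, ∀ (F : Type) [Field F] [Fintype F] (n q d : ℕ), Fintype.card F = q ^ 2 → 5 ≤ d →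
  ¬ Cfsg.Involves (alternatingGroup (Fin d)) (Cfsg.PSU n F q) → n ≤ C * d
def A_POdd : Prop := ∃ C : ℕ, ∀ (F : Type) [Field F] [Fintype F] (m d : ℕ), 5 ≤ d → Odd (Fintype.card F) →
  ¬ Cfsg.Involves (alternatingGroup (Fin d)) (Cfsg.POmega F (Cfsg.quadFormOdd m F)) → m ≤ C * d
def A_PPlus : Prop := ∃ C : ℕ, ∀ (F : Type) [Field F] [Fintype F] (m d : ℕ), 5 ≤ d →
  ¬ Cfsg.Involves (alternatingGroup (Fin d)) (Cfsg.POmega F (Cfsg.quadFormPlus m F)) → m ≤ C * d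
def A_PMinus : Prop := ∃ C : ℕ, ∀ (F : Type) [Field F] [Fintype F] (m d : ℕ) (a b : F), 5 ≤ d →
  ¬ Cfsg.Involves (alternatingGroup (Fin d)) (Cfsg.POmega F (Cfsg.quadFormMinus m F a b)) → m ≤ C * d

/-! ### assemblies -/

/-- all rows of Lie type: `TBase T (c d)` -/
def Rows (P : ∀ (T : Type) [Group T], Prop) : Prop :=
  ∃ c : ℕ, 0 < c ∧ ∀ d : ℕ, 5 ≤ d → ∀ (T : Type) [Group T] [Finite T] [IsSimpleGroup T], P T →
    ¬ Cfsg.Involves (alternatingGroup (Fin d)) T → TBase T (c * d)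

def Asm_PSL : Prop := T_SL → T_tbase_of_strong → T_count → T_supp_pos → A_PSL → T_tbase_mono →
  Rows (fun T _ => Cfsg.IsPSL T)
def Asm_PSp : Prop := T_Sp → T_tbase_of_strong → T_count → T_supp_pos → A_PSp → T_tbase_mono →
  Rows (fun T _ => Cfsg.IsPSp T)
def Asm_PSU : Prop := T_SU → T_tbase_of_strong → T_count → T_supp_pos → A_PSU → T_tbase_mono →
  Rows (fun T _ => Cfsg.IsPSU T)
def Asm_POdd : Prop := T_OOdd → T_tbase_of_strong → T_count → T_supp_pos → A_POdd → T_tbase_mono →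
  Rows (fun T _ => Cfsg.IsPOmegaOdd T)
def Asm_PPlus : Prop := T_OPlus → T_tbase_of_strong → T_count → T_supp_pos → A_PPlus → T_tbase_mono →
  Rows (fun T _ => Cfsg.IsPOmegaPlus T)
def Asm_PMinus : Prop := T_OMinus → T_tbase_of_strong → T_count → T_supp_pos → A_PMinus → T_tbase_mono →
  Rows (fun T _ => Cfsg.IsPOmegaMinus T)
def Asm_Exc : Prop := T_Exc → T_tbase_of_strong → T_tbase_mono → Rows (fun T _ => Cfsg.IsExceptionalLieType T)
def Asm_Spor : Prop := T_tbase_small → T_tbase_mono → Rows (fun T _ => Cfsg.IsSporadicGroup T)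

end Cfsg.Agent.H254.BS.PI
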