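import Cfsg.Agent.H548.FP.TopAll
import Cfsg.Agent.H847.BSF.FormFacts
import Cfsg.Agent.H920.FP.Asm
import Cfsg.Agent.H523.BS.Exc
import Cfsg.Agent.H195.FP.TSLAll
import Cfsg.Agent.H640.BS.Asm
import Cfsg.Agent.H858.PI.Asm
import Cfsg.Agent.H537.BS.Alt
import Cfsg.Agent.H830.B57.Top
import Cfsg.Agent.H830.B57.NOne
import Cfsg.Agent.H457.Bs.LinPrim
import Cfsg.Agent.H254.BS.Count
import Cfsg.Agent.H830.B57.RootSp
import Cfsg.Agent.H830.B57.RootSU

/-!
# S5717: everything together (helper254), the classification and 2-generation as hypotheses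
-/

set_option autoImplicit false

namespace Cfsg.Agent.H254.BS.Fin57

open Cfsg.Agent.H254.BS.PI Cfsg.Agent.H830.B57 Subgroup

theorem n_mono : T_tbase_mono := fun _ _ _ _ h _ hT => H640.BS.tbase_mono h hT

theorem n_small : T_tbase_small := fun n => ⟨n, fun _ _ _ _ _ h => H640.BS.tbase_card h⟩

theorem fin (b4 : BR_OOdd) (b5 : BR_OPlus) (b6 : BR_OMinus)
    (hcl : ∀ (T : Type) [Group T] [Finite T] [IsSimpleGroup T], Cfsg.IsKnownSimple' T)
    (h2 : ∀ (T : Type) [Group T] [Finite T] [IsSimpleGroup T], ∃ u v : T, closure {u, v} = ⊤) :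
    ∃ c : ℕ, ∀ (d : ℕ), 5 ≤ d → ∀ (G Ω : Type*) [Group G] [Finite G] [MulAction G Ω]
      [FaithfulSMul G Ω] [Fintype Ω], MulAction.IsPreprimitive G Ω →
      ¬ Cfsg.Involves (alternatingGroup (Fin d)) G →
      ∃ B : Finset Ω, B.card ≤ c * d ∧ ∀ g : G, (∀ b ∈ B, g • b = b) → g = 1 := by
  have hc : T_count := t_count
  have hs : T_supp_pos := t_supp_pos
  have b2 : BR_Sp := RootSp.br_sp
  have b3 : BR_SU := RootSU.br_su
  have n1 : T_tbase_of_strong := NOne.t_tbase_of_strong h2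
  have t2 : T_Sp := H920.FP.t_sp H548.FP.top_sp H847.BSF.factsSp b2
  have t3 : T_SU := H920.FP.t_su H548.FP.top_su H847.BSF.factsSU b3
  have t4 : T_OOdd := H920.FP.t_oodd H548.FP.top_oodd H847.BSF.factsOOdd b4
  have t5 : T_OPlus := H920.FP.t_oplus H548.FP.top_oplus H847.BSF.factsOPlus b5
  have t6 : T_OMinus := H920.FP.t_ominus H548.FP.top_ominus H847.BSF.factsOMinus b6
  obtain ⟨K, hK⟩ := H457.Bs.linPrim_of_tbase
  exact top hcl h2
    (H858.PI.asm_PSL H195.FP.T_SL n1 hc hs H537.BS.a_PSL n_mono)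
    (H858.PI.asm_PSp t2 n1 hc hs H537.BS.a_PSp n_mono)
    (H858.PI.asm_PSU t3 n1 hc hs H537.BS.a_PSU n_mono)
    (H640.BS.asm_pOdd t4 n1 hc hs H537.BS.a_POdd n_mono)
    (H640.BS.asm_pPlus t5 n1 hc hs H537.BS.a_PPlus n_mono)
    (H640.BS.asm_pMinus t6 n1 hc hs H537.BS.a_PMinus n_mono)
    (H640.BS.asm_exc H523.BS.Exc.t_exc n1 n_mono)
    (H640.BS.asm_spor n_small n_mono)
    ⟨K, fun d k h => hK d k h2 h⟩

end Cfsg.Agent.H254.BS.Fin57
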